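import Cfsg.Agent.Lib.TICent.Zassenhaus
import Cfsg.Agent.S0885
import Cfsg.Agent.S0338
import Cfsg.Agent.S1147

/-!
# The kernel of the Zassenhaus action is abelian

By Feit's bound either the kernel consists of involutions or it is a non-abelian 2-group as in a
Suzuki group; in the latter case the TI condition on the centraliser of an element of order four
makes it abelian.
-/

set_option autoImplicit false
set_option linter.unusedSectionVars false

namespace CfsgLib.TICent

open CfsgLib.Invol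

universe u

variable {G : Type u} [Group G] [Finite G] {T : Sylow 2 G} {A : Subgroup G}

namespace Ctx

variable (h : Ctx T A)
include h

theorem central_sq {a x : G} (hx : x ∈ A) (hx2 : x * x = 1) (ha : a ∈ A) : Commute a x := by
  by_cases h1 : x = 1
  · rw [h1]; exact Commute.one_right a
  have hi := invol_of_mul_self hx2 h1
  exact h.central x (h.mem_T x hi (h.A_le_NH hx)) hi a ha

/-- Elements squaring to one. -/
def omega : Subgroup G where
  carrier := {x | x ∈ A ∧ x * x = 1}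
  one_mem' := ⟨one_mem A, one_mul 1⟩
  mul_mem' := fun {x y} hx hy => ⟨mul_mem hx.1 hy.1, by
    rw [show x * y * (x * y) = x * (y * x) * y by group,
      (h.central_sq hx.1 hx.2 hy.1).eq, ← mul_assoc, hx.2, one_mul, hy.2]⟩
  inv_mem' := fun {x} hx => ⟨inv_mem hx.1, by rw [← mul_inv_rev, hx.2, inv_one]⟩

theorem card_omega {y : G ⧸ NH T} (hy : y ≠ pt T) :
    Nat.card h.omega = Nat.card (twoStab T y) + 1 := by
  classical
  rw [h.card_twoStab hy]
  have := Fintype.ofFinite h.omega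
  let e : {t : G // orderOf t = 2 ∧ t ∈ NH T} ≃ {x : h.omega // x ≠ 1} :=
    { toFun := fun t => ⟨⟨t.1, h.T_le (h.mem_T _ t.2.1 t.2.2), invol_mul_self t.2.1⟩,
        fun e => invol_ne_one t.2.1 (congrArg Subtype.val e)⟩
      invFun := fun x => ⟨x.1.1, invol_of_mul_self x.1.2.2 (fun e => x.2 (Subtype.ext e)),
        h.A_le_NH x.1.2.1⟩
      left_inv := fun _ => rfl
      right_inv := fun _ => rfl }
  rw [Nat.card_congr e, Nat.card_eq_fintype_card (α := {x : h.omega // x ≠ 1}),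
    Fintype.card_subtype_compl, Fintype.card_subtype_eq, Nat.card_eq_fintype_card]
  exact (Nat.sub_add_cancel Fintype.card_pos).symm

theorem reg (u v : G ⧸ NH T) (hu : u ≠ pt T) (hv : v ≠ pt T) :
    ∃! a : A, (a : G) • u = v := by
  obtain ⟨c, hc, hcu⟩ := h.A_transitive hv hu
  exact ⟨⟨c, hc⟩, hcu, fun c' hc' => Subtype.ext (h.A_inj c'.2 hc hu (hc'.trans hcu.symm))⟩

theorem card_points : Nat.card (G ⧸ NH T) = Nat.card A + 1 := by
  classical
  obtain ⟨y, hy⟩ := h.exists_ne_pt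
  have := Fintype.ofFinite (G ⧸ NH T)
  let f : A → {p : G ⧸ NH T // p ≠ pt T} := fun a => ⟨(a : G) • y, fun e => hy (by
    rw [eq_inv_smul_iff.2 e, smul_pt_iff]; exact inv_mem (h.A_le_NH a.2))⟩
  have hf : Function.Bijective f :=
    ⟨fun a b e => Subtype.ext (h.A_inj a.2 b.2 hy (congrArg Subtype.val e)),
      fun p => (h.reg y p.1 hy p.2).exists.imp fun a ha => Subtype.ext ha⟩
  rw [Nat.card_congr (Equiv.ofBijective f hf), Nat.card_eq_fintype_card,
    Nat.card_eq_fintype_card, Fintype.card_subtype_compl, Fintype.card_subtype_eq]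
  exact (Nat.sub_add_cancel Fintype.card_pos).symm

theorem stab_pt : MulAction.stabilizer G (pt T) = NH T := by
  ext g; rw [MulAction.mem_stabilizer_iff, smul_pt_iff]

theorem commute_conj_self {x d : G} (hx : x ∈ A) (hd : d ∈ NH T) :
    Commute (d * x * d⁻¹) x := by
  obtain ⟨s, -, hs, -, hs2, -, -⟩ := h.many
  have hsA : d⁻¹ * s * d ∈ A := by
    have := h.conj_mem _ (inv_mem hd) _ (h.T_le hs)
    rwa [inv_inv] at this
  refine commute_of_mem_normalizer (h.ti.mem_normalizer (y := d⁻¹ * s * d) ?_ ?_ ?_) (Commute.refl x)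
  · refine (h.central_sq hsA ?_ hx).symm
    rw [show d⁻¹ * s * d * (d⁻¹ * s * d) = d⁻¹ * (s * s) * d by group, invol_mul_self hs2]; group
  · intro e
    refine invol_ne_one hs2 ?_
    calc s = d * (d⁻¹ * s * d) * d⁻¹ := by group
      _ = 1 := by rw [e]; group
  · rw [show d * (d⁻¹ * s * d) * d⁻¹ = s by group]
    exact (h.central s hs hs2 x hx).symm

theorem commute_of_sq {y : G ⧸ NH T} (hy : y ≠ pt T)
    (hcard : Nat.card A = Nat.card h.omega * Nat.card h.omega) {x : G} (hx : x ∈ A)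
    (hx4 : x * x * (x * x) = 1) (hx2 : x * x ≠ 1) :
    ∀ u ∈ A, u ∉ h.omega → Commute u x ∧ u * u * (u * u) = 1 := by
  classical
  have := Fintype.ofFinite A
  have := Fintype.ofFinite (twoStab T y)
  have := Fintype.ofFinite h.omega
  have hxxA : x * x ∈ A := mul_mem hx hx
  have hxc : ∀ d : twoStab T y, ∀ w ∈ h.omega,
      (d.1 * x * d.1⁻¹ * w) * (d.1 * x * d.1⁻¹ * w) = d.1 * (x * x) * d.1⁻¹ := by
    intro d w hw
    have hc := h.central_sq hw.1 hw.2 (h.conj_mem _ d.2.1 _ hx)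
    calc d.1 * x * d.1⁻¹ * w * (d.1 * x * d.1⁻¹ * w)
        = d.1 * x * d.1⁻¹ * (w * (d.1 * x * d.1⁻¹)) * w := by group
      _ = d.1 * x * d.1⁻¹ * (d.1 * x * d.1⁻¹ * w) * w := by rw [hc.eq]
      _ = d.1 * (x * x) * d.1⁻¹ * (w * w) := by group
      _ = _ := by rw [hw.2, mul_one]
  let f : twoStab T y × h.omega → {u : A // (u : G) ∉ h.omega} := fun p =>
    ⟨⟨p.1.1 * x * p.1.1⁻¹ * p.2.1, mul_mem (h.conj_mem _ p.1.2.1 _ hx) p.2.2.1⟩, fun e => hx2 (by
      have e2 := e.2
      rw [hxc p.1 _ p.2.2] at e2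
      exact conj_eq_one_iff.1 e2)⟩
  have hf : Function.Injective f := by
    rintro ⟨d, w⟩ ⟨d', w'⟩ e
    have e' : d.1 * x * d.1⁻¹ * w.1 = d'.1 * x * d'.1⁻¹ * w'.1 := congrArg (fun u => (u.1 : G)) e
    have e2 : d.1 * (x * x) * d.1⁻¹ = d'.1 * (x * x) * d'.1⁻¹ := by
      rw [← hxc d _ w.2, e', hxc d' _ w'.2]
    have hdd : d' = d := by
      refine Subtype.ext (inv_mul_eq_one.1 (h.semireg hy (mul_mem (inv_mem d'.2) d.2) hxxA hx2 ?_))
      show d'.1⁻¹ * d.1 * (x * x) = x * x * (d'.1⁻¹ * d.1)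
      calc d'.1⁻¹ * d.1 * (x * x) = d'.1⁻¹ * (d.1 * (x * x) * d.1⁻¹) * d.1 := by group
        _ = d'.1⁻¹ * (d'.1 * (x * x) * d'.1⁻¹) * d.1 := by rw [e2]
        _ = _ := by group
    subst hdd
    exact Prod.ext rfl (Subtype.ext (mul_left_cancel e'))
  have hc : Fintype.card {u : A // (u : G) ∉ h.omega} ≤ Fintype.card (twoStab T y × h.omega) := by
    have e1 : Fintype.card {u : A // (u : G) ∈ h.omega} = Fintype.card h.omega :=
      Fintype.card_congr
        { toFun := fun u => ⟨u.1.1, u.2⟩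
          invFun := fun u => ⟨⟨u.1, u.2.1⟩, u.2⟩
          left_inv := fun _ => rfl
          right_inv := fun _ => rfl }
    rw [Fintype.card_subtype_compl, e1, Fintype.card_prod]
    have h1 := h.card_omega hy
    simp only [Nat.card_eq_fintype_card] at hcard h1
    rw [hcard, h1, add_mul, one_mul, Nat.add_sub_cancel]
  have hbij := (Fintype.bijective_iff_injective_and_card f).2
    ⟨hf, le_antisymm (Fintype.card_le_of_injective f hf) hc⟩
  intro u hu hu'
  obtain ⟨⟨d, w⟩, hdw⟩ := hbij.2 ⟨⟨u, hu⟩, hu'⟩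
  have e : d.1 * x * d.1⁻¹ * w.1 = u := congrArg (fun u => (u.1 : G)) hdw
  subst e
  refine ⟨(h.commute_conj_self hx d.2.1).mul_left (h.central_sq w.2.1 w.2.2 hx).symm, ?_⟩
  rw [hxc d _ w.2, show d.1 * (x * x) * d.1⁻¹ * (d.1 * (x * x) * d.1⁻¹) =
    d.1 * (x * x * (x * x)) * d.1⁻¹ by group, hx4, mul_one, mul_inv_cancel]

/-- The kernel is abelian. -/
theorem abelian {a b : G} (ha : a ∈ A) (hb : b ∈ A) : Commute a b := by
  classical
  have : Fact (Nat.Prime 2) := ⟨Nat.prime_two⟩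
  obtain ⟨y, hy⟩ := h.exists_ne_pt
  have := Fintype.ofFinite (G ⧸ NH T)
  have hst : MulAction.stabilizer G (pt T) ⊓ MulAction.stabilizer G y = twoStab T y := by
    rw [h.stab_pt]; rfl
  have hdeg : Fintype.card (G ⧸ NH T) = Nat.card A + 1 := by
    rw [← Nat.card_eq_fintype_card, h.card_points]
  have hom : h.omega ≤ A := fun x hx => hx.1
  have hpos : 0 < Nat.card (twoStab T y) := Nat.card_pos
  obtain ⟨c, hc⟩ := Subgroup.card_dvd_of_le hom
  rcases Cfsg.Agent.S0885.result h.isZassenhaus hy.symm (Nat.card A) (Nat.card (twoStab T y)) hdeg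
      (by rw [hst]) (h.odd_twoStab hy) A (fun x hx => by rw [h.stab_pt]; exact h.A_le_NH hx)
      hdeg.symm (fun u hu hu1 p hp => by
        by_contra hp1
        exact hu1 (h.eq_one_of_mem hp1 (mem_twoStab.2 ⟨smul_pt_iff.2 (h.A_le_NH hu), hp⟩) hu))
    with hle | ⟨hA2, ⟨u, v, huv⟩, -⟩
  · rw [h.card_omega hy] at hc
    have hc1 : c = 1 := by
      rcases Nat.lt_or_ge c 2 with h2 | h2
      · interval_cases c
        · simp [Nat.card_pos.ne'] at hc
        · rfl
      · have := Nat.mul_le_mul_left (Nat.card (twoStab T y) + 1) h2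
        omega
    have heq : h.omega = A := Subgroup.eq_of_le_of_card_ge hom (by
      rw [h.card_omega hy, hc, hc1, mul_one])
    rw [← heq] at hb
    exact h.central_sq hb.1 hb.2 ha
  exfalso
  have hAeven : Even (Nat.card A) := by
    obtain ⟨s, -, hs, -, hs2, -, -⟩ := h.many
    rw [even_iff_two_dvd, ← hs2]
    exact Subgroup.orderOf_dvd_natCard A (h.T_le hs)
  have := Cfsg.Agent.S0338.result h.isZassenhaus (by rw [hdeg]; exact hAeven.add_one)
  obtain ⟨n, -, -, hn, -, hn2, -⟩ := Cfsg.Agent.S1147.result h.isZassenhaus hy.symm A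
    (fun x hx => by rw [h.stab_pt]; exact h.A_le_NH hx)
    (fun g hg x hx => h.conj_mem g (by rwa [h.stab_pt] at hg) x hx)
    (fun p q hp hq => h.reg p q hp hq) hA2
    ⟨u, u.2, v, v.2, fun e => huv (Subtype.ext e)⟩
  rw [h.card_points, Nat.add_right_cancel_iff] at hn
  rw [hst] at hn2
  have hq : Nat.card h.omega = 2 ^ n := by
    rw [h.card_omega hy, hn2]; exact Nat.sub_add_cancel Nat.one_le_two_pow
  have hcard : Nat.card A = Nat.card h.omega * Nat.card h.omega := by
    rw [hn, hq, ← pow_add, two_mul]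
  obtain ⟨x, hx, hx4, hx2⟩ : ∃ x ∈ A, x * x * (x * x) = 1 ∧ x * x ≠ 1 := by
    by_contra hcon
    push Not at hcon
    have key : ∀ (k : ℕ) (w : G), w ∈ A → w ^ 2 ^ k = 1 → w * w = 1 := by
      intro k
      induction k with
      | zero => intro w _ hw; rw [pow_zero, pow_one] at hw; rw [hw, one_mul]
      | succ k ih =>
        intro w hw hwk
        have := ih (w * w) (mul_mem hw hw) (by rw [← pow_two, ← pow_mul, ← pow_succ']; exact hwk)
        exact hcon w hw this
    obtain ⟨k, hk⟩ := hA2 v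
    exact huv (Subtype.ext (h.central_sq v.2 (key k v.1 v.2 (congrArg Subtype.val hk)) u.2).eq)
  refine huv (Subtype.ext ?_)
  by_cases hu : (u : G) ∈ h.omega
  · exact ((h.central_sq hu.1 hu.2 v.2).symm).eq
  by_cases hv : (v : G) ∈ h.omega
  · exact (h.central_sq hv.1 hv.2 u.2).eq
  obtain ⟨-, hv4⟩ := h.commute_of_sq hy hcard hx hx4 hx2 v v.2 hv
  exact (h.commute_of_sq hy hcard v.2 hv4 (fun e => hv ⟨v.2, e⟩) u u.2 hu).1.eq

/-- Involution centralisers are abelian. -/
theorem abelian_centralizer (t : G) (ht : orderOf t = 2) :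
    IsMulCommutative (Subgroup.centralizer ({t} : Set G)) := by
  obtain ⟨r, hir, -⟩ := se_existsUnique_fix h.stronglyEmbedded ht
  obtain ⟨g, rfl⟩ := QuotientGroup.mk_surjective r
  have hi2 : orderOf (g⁻¹ * t * g) = 2 := by rw [orderOf_conj_inv_eq, ht]
  have hi' := h.T_le (h.mem_T _ hi2 ((fix_coset_iff _ _).1 hir))
  have key : ∀ a ∈ Subgroup.centralizer ({t} : Set G), g⁻¹ * a * g ∈ A := fun a ha =>
    h.mem_of_commute _ hi' (invol_ne_one hi2) _ (by
      simpa using Commute.map (Subgroup.mem_centralizer_singleton_iff.1 ha)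
        (MulAut.conj g⁻¹).toMonoidHom)
  refine ⟨⟨fun a b => Subtype.ext ?_⟩⟩
  have := (h.abelian (key a a.2) (key b b.2)).map (MulAut.conj g).toMonoidHom
  simpa [mul_assoc] using this.eq

end Ctx

end CfsgLib.TICent
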