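import Cfsg.Prelude.Def_OddOrderLocal
import Cfsg.Prelude.Def_LieExceptional
import Mathlib

/-!
# Groups in which every element centraliser is a trivial intersection set

Such groups are nilpotent when the centre is non-trivial, and have nilpotent centralisers.
-/

set_option autoImplicit false
set_option linter.unusedSectionVars false

namespace CfsgLib.TICent

open Subgroup

variable {G : Type*} [Group G]

/-- Every centraliser of an element is a TI set. -/
def Hyp (G : Type*) [Group G] : Prop :=
  ∀ x : G, Cfsg.IsTISubset (Subgroup.centralizer ({x} : Set G) : Set G)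

theorem Hyp.mem_normalizer (h : Hyp G) {x y g : G} (hy : Commute y x) (hy1 : y ≠ 1)
    (hg : Commute (g * y * g⁻¹) x) :
    g ∈ normalizer (centralizer ({x} : Set G) : Set G) := by
  by_contra hn
  exact hy1 (h x g hn y (mem_centralizer_singleton_iff.2 hy) (mem_centralizer_singleton_iff.2 hg))

/-- If `g` commutes with `y ≠ 1` and `y` with `x`, then `g` normalises `C(x)`. -/
theorem Hyp.mem_normalizer_of_commute (h : Hyp G) {x y g : G} (hy : Commute y x) (hy1 : y ≠ 1)
    (hg : Commute g y) : g ∈ normalizer (centralizer ({x} : Set G) : Set G) :=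
  h.mem_normalizer hy hy1 (by rw [hg.eq, mul_inv_cancel_right]; exact hy)

theorem commute_of_mem_normalizer {x c g : G} (hg : g ∈ normalizer (centralizer ({x} : Set G) : Set G))
    (hc : Commute c x) : Commute (g * c * g⁻¹) x :=
  mem_centralizer_singleton_iff.1
    ((mem_normalizer_iff.1 hg c).1 (mem_centralizer_singleton_iff.2 hc))

/-- A group in which all centralisers are normal is nilpotent. -/
theorem isNilpotent_of_normal_centralizers [Finite G]
    (hn : ∀ h c g : G, Commute c h → Commute (g * c * g⁻¹) h) : Group.IsNilpotent G := by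
  have hnormal : ∀ (p : ℕ) (_ : Fact p.Prime) (P : Sylow p G), (P : Subgroup G).Normal := by
    intro p _ P
    have key : ∀ h : G, (∃ k, h ^ p ^ k = 1) → h ∈ (P : Subgroup G) := by
      intro h hh
      let K : Subgroup G :=
        { carrier := {x | (∀ c, Commute c h → Commute x c) ∧ ∃ k, x ^ p ^ k = 1}
          one_mem' := ⟨fun c _ => Commute.one_left c, 0, by simp⟩
          mul_mem' := fun {a b} ha hb => by
            obtain ⟨ha1, i, hi⟩ := ha
            obtain ⟨hb1, j, hj⟩ := hb
            refine ⟨fun c hc => (ha1 c hc).mul_left (hb1 c hc), i + j, ?_⟩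
            rw [(ha1 b (hb1 h (Commute.refl h))).mul_pow, pow_add, pow_mul a, hi, one_pow, one_mul,
              mul_comm (p ^ i) (p ^ j), pow_mul b, hj, one_pow]
          inv_mem' := fun {a} ha => ⟨fun c hc => (ha.1 c hc).inv_left, ha.2.imp fun k hk => by
            rw [inv_pow, hk, inv_one]⟩ }
      have hKn : K.Normal := ⟨fun a ha g => ⟨fun c hc => by
          have h1 := (ha.1 (g⁻¹ * c * g) (by simpa using hn h c g⁻¹ hc)).map
            (MulAut.conj g).toMonoidHom
          simpa [mul_assoc] using h1,
        ha.2.imp fun k hk => by rw [conj_pow, hk, mul_one, mul_inv_cancel]⟩⟩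
      have hKp : IsPGroup p K := fun a => a.2.2.imp fun k hk => Subtype.ext hk
      have hhK : h ∈ K := ⟨fun c hc => hc.symm, hh⟩
      have hsup : IsPGroup p (K ⊔ P : Subgroup G) := hKp.to_sup_of_normal_left P.isPGroup'
      exact (P.is_maximal' hsup le_sup_right).le (Subgroup.mem_sup_left hhK)
    refine ⟨fun a ha g => key _ ?_⟩
    obtain ⟨k, hk⟩ := P.isPGroup' ⟨a, ha⟩
    refine ⟨k, ?_⟩
    rw [conj_pow, show a ^ p ^ k = 1 from congrArg Subtype.val hk, mul_one, mul_inv_cancel]
  exact ((Group.isNilpotent_of_finite_tfae (G := G)).out 0 3).2 fun p hp P => hnormal p hp P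

/-- A group with non-trivial centre and TI centralisers is nilpotent. -/
theorem Hyp.isNilpotent_of_center [Finite G] (h : Hyp G) (hZ : Subgroup.center G ≠ ⊥) :
    Group.IsNilpotent G := by
  obtain ⟨⟨z, hz⟩, hz1⟩ := Subgroup.ne_bot_iff_exists_ne_one.1 hZ
  refine isNilpotent_of_normal_centralizers fun x c g hc => ?_
  refine commute_of_mem_normalizer (h.mem_normalizer_of_commute (y := z) ?_
    (fun e => hz1 (Subtype.ext e)) ?_) hc
  · exact (Subgroup.mem_center_iff.1 hz x).symm
  · exact Subgroup.mem_center_iff.1 hz g

/-- The centralisers are CN. -/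
theorem Hyp.isCN [Finite G] (h : Hyp G) : Cfsg.IsCNGroup G := by
  intro x hx
  refine isNilpotent_of_normal_centralizers fun a c g hc => ?_
  by_cases ha : a = 1
  · subst ha; exact Commute.one_right _
  · refine Subtype.ext (commute_of_mem_normalizer (h.mem_normalizer_of_commute (y := x) ?_ hx ?_)
      (congrArg Subtype.val hc : Commute (c : G) (a : G))).eq
    · exact (mem_centralizer_singleton_iff.1 a.2).symm
    · exact mem_centralizer_singleton_iff.1 g.2

/-- Centralisers in a centraliser are normal. -/
theorem Hyp.commute_conj (h : Hyp G) {e a c g : G} (he : e ≠ 1) (ha : Commute a e)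
    (hg : Commute g e) (hc : Commute c a) : Commute (g * c * g⁻¹) a :=
  commute_of_mem_normalizer (h.mem_normalizer_of_commute (y := e) ha.symm he hg) hc

end CfsgLib.TICent
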