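import Cfsg.Agent.Lib.TICent.Basic
import Cfsg.Agent.Lib.Invol.CAInvol
import Cfsg.Agent.Lib.OddLocal.FittingHall

/-!
# The Sylow 2-subgroup when all centralisers are TI

`T` is a TI subgroup, its normaliser is strongly embedded, its involutions are central in it and
have one common centraliser `A`, which contains the centraliser of each of its non-identity
elements.
-/

set_option autoImplicit false
set_option linter.unusedSectionVars false

namespace CfsgLib.TICent

open Subgroup CfsgLib.Invol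

variable {G : Type*} [Group G] [Finite G]

theorem conj_cancel' (g x : G) : g⁻¹ * (g * x * g⁻¹) * g = x := by group

/-- An element is the product of commuting powers of 2-power and odd order. -/
theorem exists_parts (a : G) : ∃ u v : G, a = u * v ∧ (∀ b, Commute b a → Commute b u) ∧
    (∀ b, Commute b a → Commute b v) ∧ (∃ k, u ^ 2 ^ k = 1) ∧ Odd (orderOf v) := by
  obtain ⟨k, m, hm, hn⟩ := Nat.exists_eq_two_pow_mul_odd (n := orderOf a) (orderOf_pos a).ne'
  have hc : IsCoprime ((2 : ℤ) ^ k) (m : ℤ) := by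
    have h2 : Nat.Coprime (2 ^ k) m := Nat.Coprime.pow_left k (Nat.coprime_two_left.2 hm)
    simpa using Nat.isCoprime_iff_coprime.2 h2
  obtain ⟨s, t, hst⟩ := hc
  have hord : a ^ ((2 : ℤ) ^ k * (m : ℤ)) = 1 := by
    rw [show (2 : ℤ) ^ k * (m : ℤ) = ((orderOf a : ℕ) : ℤ) by rw [hn]; push_cast; ring, zpow_natCast,
      pow_orderOf_eq_one]
  refine ⟨a ^ (t * m), a ^ (s * 2 ^ k), ?_, fun b hb => hb.zpow_right _, fun b hb => hb.zpow_right _,
    ⟨k, ?_⟩, ?_⟩
  · rw [← zpow_add, add_comm, hst, zpow_one]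
  · rw [← zpow_natCast, ← zpow_mul, show t * (m : ℤ) * ((2 ^ k : ℕ) : ℤ) = (2 : ℤ) ^ k * m * t by
      push_cast; ring, zpow_mul, hord, one_zpow]
  · refine Odd.of_dvd_nat hm (orderOf_dvd_of_pow_eq_one ?_)
    rw [← zpow_natCast, ← zpow_mul, show s * (2 : ℤ) ^ k * (m : ℤ) = (2 : ℤ) ^ k * m * s by ring,
      zpow_mul, hord, one_zpow]

theorem coprime_of_two {u v : G} (hu : ∃ k, u ^ 2 ^ k = 1) (hv : Odd (orderOf v)) :
    (orderOf u).Coprime (orderOf v) := by
  obtain ⟨k, hk⟩ := hu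
  exact (Nat.Coprime.pow_left k (Nat.coprime_two_left.2 hv)).coprime_dvd_left
    (orderOf_dvd_of_pow_eq_one hk)

/-- Elements of coprime order centralising a common non-trivial element commute. -/
theorem Hyp.commute_of_coprime (h : Hyp G) {e a b : G} (he : e ≠ 1) (ha : Commute a e)
    (hb : Commute b e) (hcop : (orderOf a).Coprime (orderOf b)) : Commute a b :=
  congrArg Subtype.val (CfsgLib.OddLocal.commute_of_coprime_of_isNilpotent (h.isCN e he)
    (x := (⟨a, mem_centralizer_singleton_iff.2 ha⟩ : centralizer ({e} : Set G)))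
    (y := ⟨b, mem_centralizer_singleton_iff.2 hb⟩) (by
      rwa [← Subgroup.orderOf_coe, ← Subgroup.orderOf_coe])).eq

variable {T : Sylow 2 G}

theorem exists_two_pow {t : G} (ht : t ∈ (T : Subgroup G)) : ∃ k, t ^ 2 ^ k = 1 := by
  obtain ⟨k, hk⟩ := T.isPGroup' ⟨t, ht⟩
  exact ⟨k, congrArg Subtype.val hk⟩

theorem mem_T_of_two {u : G} (hu : u ∈ NH T) (h2 : ∃ k, u ^ 2 ^ k = 1) : u ∈ (T : Subgroup G) := by
  have hp : IsPGroup 2 (zpowers u) := by
    obtain ⟨k, hk⟩ := h2
    obtain ⟨m, -, hm⟩ := (Nat.dvd_prime_pow Nat.prime_two).1 (orderOf_dvd_of_pow_eq_one hk)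
    exact IsPGroup.of_card (n := m) (by rw [Nat.card_zpowers, hm])
  have hsup := T.isPGroup'.to_sup_of_normal_left' hp (zpowers_le.2 hu)
  exact (T.is_maximal' hsup le_sup_left).le (mem_sup_right (mem_zpowers u))

theorem le_NH_of_nilpotent {H : Subgroup G} (hle : (T : Subgroup G) ≤ H)
    (hH : Group.IsNilpotent H) : H ≤ NH T := by
  have : Fact (Nat.Prime 2) := ⟨Nat.prime_two⟩
  have hall : ∀ (p : ℕ) (_hp : Fact p.Prime) (P : Sylow p H), (P : Subgroup H).Normal :=
    ((Group.isNilpotent_of_finite_tfae (G := H)).out 0 3).1 hH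
  have hn : ((T.subtype hle : Sylow 2 H) : Subgroup H).Normal := hall 2 ⟨Nat.prime_two⟩ _
  rw [Sylow.coe_subtype] at hn
  exact (normal_subgroupOf_iff_le_normalizer hle).1 hn

/-- A central involution of a Sylow 2-subgroup. -/
structure Pre (T : Sylow 2 G) (z : G) : Prop where
  ti : Hyp G
  z_mem : z ∈ (T : Subgroup G)
  z_two : orderOf z = 2
  z_comm : ∀ t ∈ (T : Subgroup G), Commute t z

theorem exists_pre (h : Hyp G) (T : Sylow 2 G) (hT : (T : Subgroup G) ≠ ⊥) : ∃ z, Pre T z := by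
  have : Fact (Nat.Prime 2) := ⟨Nat.prime_two⟩
  have : Nontrivial (T : Subgroup G) := (nontrivial_iff_ne_bot _).2 hT
  obtain ⟨k, hk0, hk⟩ := (T.isPGroup'.to_subgroup (center (T : Subgroup G))).nontrivial_iff_card.1
    (IsPGroup.center_nontrivial T.isPGroup')
  obtain ⟨z, hz⟩ := exists_prime_orderOf_dvd_card' (G := center (T : Subgroup G)) 2 (by
    rw [hk]; exact dvd_pow_self 2 hk0.ne')
  exact ⟨z.1, h, z.1.2, by rw [Subgroup.orderOf_coe, Subgroup.orderOf_coe, hz],
    fun t ht => congrArg Subtype.val (mem_center_iff.1 z.2 ⟨t, ht⟩)⟩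

namespace Pre

variable {z : G} (h : Pre T z)
include h

theorem z_ne_one : z ≠ 1 := invol_ne_one h.z_two

theorem T_le : (T : Subgroup G) ≤ centralizer ({z} : Set G) := fun t ht =>
  mem_centralizer_singleton_iff.2 (h.z_comm t ht)

theorem A_le_NH : centralizer ({z} : Set G) ≤ NH T :=
  le_NH_of_nilpotent h.T_le (h.ti.isCN z h.z_ne_one)

theorem cent_le_NH {y g : G} (hy : y ∈ (T : Subgroup G)) (hy1 : y ≠ 1) (hg : Commute g y) :
    g ∈ NH T := by
  have hn := h.ti.mem_normalizer_of_commute (h.z_comm y hy) hy1 hg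
  refine mem_normalizer_fintype fun t ht => ?_
  obtain ⟨k, hk⟩ := exists_two_pow ht
  exact mem_T_of_two
    (h.A_le_NH (mem_centralizer_singleton_iff.2 (commute_of_mem_normalizer hn (h.z_comm t ht))))
    ⟨k, by rw [conj_pow, hk, mul_one, mul_inv_cancel]⟩

/-- `T` is a TI subgroup. -/
theorem mem_NH_of_conj {y g : G} (hy : y ∈ (T : Subgroup G)) (hy1 : y ≠ 1)
    (hg : g * y * g⁻¹ ∈ (T : Subgroup G)) : g ∈ NH T := by
  have hz' : g * z * g⁻¹ ∈ (T : Subgroup G) := by
    refine mem_T_of_two (h.cent_le_NH hg (by simpa using hy1) ?_) ⟨1, ?_⟩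
    · simpa using ((h.z_comm y hy).symm.map (MulAut.conj g).toMonoidHom)
    · rw [pow_one, pow_two, conj_mul, invol_mul_self h.z_two, mul_one, mul_inv_cancel]
  refine mem_normalizer_fintype fun t ht => ?_
  obtain ⟨k, hk⟩ := exists_two_pow ht
  refine mem_T_of_two (h.cent_le_NH hz' (by simpa using h.z_ne_one) ?_)
    ⟨k, by rw [conj_pow, hk, mul_one, mul_inv_cancel]⟩
  simpa using (h.z_comm t ht).map (MulAut.conj g).toMonoidHom

theorem invol_mem_T {i : G} (hi : orderOf i = 2) (hiH : i ∈ NH T) : i ∈ (T : Subgroup G) :=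
  CAHyp.mem_T_of_sq hiH (invol_mul_self hi)

theorem stronglyEmbedded (hnn : ¬ (T : Subgroup G).Normal) :
    Cfsg.IsStronglyEmbedded (NH T) := by
  refine ⟨fun e => hnn (normalizer_eq_top_iff.1 e), ?_, fun g hg => ?_⟩
  · refine even_iff_two_dvd.2 ?_
    rw [← h.z_two]
    exact Subgroup.orderOf_dvd_natCard (NH T) (Subgroup.le_normalizer h.z_mem)
  · by_contra hodd
    rw [Nat.not_odd_iff_even] at hodd
    obtain ⟨i, ⟨hiH, k, hk, hki⟩, hi⟩ := exists_invol_mem hodd
    have hki' : g * k * g⁻¹ = i := hki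
    have hk2 : orderOf k = 2 := by rw [← orderOf_conj_eq g k, hki', hi]
    exact hg (h.mem_NH_of_conj (h.invol_mem_T hk2 hk) (invol_ne_one hk2)
      (hki' ▸ h.invol_mem_T hi hiH))

theorem invol_central (hse : Cfsg.IsStronglyEmbedded (NH T)) {s t : G}
    (hs : s ∈ (T : Subgroup G)) (hs2 : orderOf s = 2) (ht : t ∈ (T : Subgroup G)) :
    Commute t s := by
  obtain ⟨g, hg⟩ := isConj_iff.1 (se_isConj hse h.z_two hs2)
  have hgN : g ∈ NH T := h.mem_NH_of_conj h.z_mem h.z_ne_one (hg.symm ▸ hs)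
  have ht' : g⁻¹ * t * g ∈ (T : Subgroup G) := (mem_normalizer_iff''.1 hgN t).1 ht
  have := (h.z_comm _ ht').map (MulAut.conj g).toMonoidHom
  simpa [hg, mul_assoc] using this

theorem mem_of_commute_invol (hse : Cfsg.IsStronglyEmbedded (NH T)) {s b : G}
    (hs : s ∈ (T : Subgroup G)) (hs2 : orderOf s = 2) (hb : Commute b s) :
    b ∈ centralizer ({z} : Set G) := by
  obtain ⟨u, v, rfl, hu, hv, hu2, hvodd⟩ := exists_parts b
  refine mem_centralizer_singleton_iff.2 (Commute.mul_left (h.z_comm u ?_) ?_)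
  · exact mem_T_of_two (h.cent_le_NH hs (invol_ne_one hs2) (hu s hb.symm).symm) hu2
  · refine h.ti.commute_of_coprime (invol_ne_one hs2) (hv s hb.symm).symm
      (h.z_comm s hs).symm ?_
    exact (coprime_of_two ⟨1, by rw [pow_one, pow_two, invol_mul_self h.z_two]⟩ hvodd).symm

theorem conj_mem (hse : Cfsg.IsStronglyEmbedded (NH T)) {g a : G} (hg : g ∈ NH T)
    (ha : a ∈ centralizer ({z} : Set G)) : g * a * g⁻¹ ∈ centralizer ({z} : Set G) := by
  refine h.mem_of_commute_invol hse (s := g * z * g⁻¹) ((mem_normalizer_iff.1 hg z).1 h.z_mem)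
    (by rw [orderOf_conj_eq, h.z_two]) ?_
  simpa using (Commute.map (mem_centralizer_singleton_iff.1 ha) (MulAut.conj g).toMonoidHom)

/-- `A` contains the centralisers of its non-identity elements. -/
theorem mem_of_commute (hse : Cfsg.IsStronglyEmbedded (NH T)) {a b : G}
    (ha : a ∈ centralizer ({z} : Set G)) (ha1 : a ≠ 1) (hb : Commute b a) :
    b ∈ centralizer ({z} : Set G) := by
  obtain ⟨u, v, rfl, hu, hv, hu2, hvodd⟩ := exists_parts a
  by_cases hu1 : u = 1
  · subst hu1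
    rw [one_mul] at ha ha1 hb
    have hz : Commute v z := mem_centralizer_singleton_iff.1 ha
    have hTv : (T : Subgroup G) ≤ centralizer ({v} : Set G) := fun t ht =>
      mem_centralizer_singleton_iff.2 (h.ti.commute_of_coprime h.z_ne_one (h.z_comm t ht) hz
        (coprime_of_two (exists_two_pow ht) hvodd))
    have hN := le_NH_of_nilpotent hTv (h.ti.isCN v ha1)
    obtain ⟨u', v', rfl, hu', hv', hu2', hvodd'⟩ := exists_parts b
    refine mem_centralizer_singleton_iff.2 (Commute.mul_left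
      (h.z_comm u' (mem_T_of_two (hN (mem_centralizer_singleton_iff.2 (hu' v hb.symm).symm)) hu2'))
      (h.ti.commute_of_coprime ha1 (hv' v hb.symm).symm hz.symm ?_))
    exact (coprime_of_two ⟨1, by rw [pow_one, pow_two, invol_mul_self h.z_two]⟩ hvodd').symm
  · have huA : u ∈ centralizer ({z} : Set G) := mem_centralizer_singleton_iff.2
      (hu z (mem_centralizer_singleton_iff.1 ha : Commute (u * v) z).symm).symm
    have huT := mem_T_of_two (h.A_le_NH huA) hu2
    obtain ⟨s, hs, hs2⟩ : ∃ s ∈ zpowers u, orderOf s = 2 := exists_invol_mem (by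
      obtain ⟨k, hk⟩ := hu2
      obtain ⟨m, -, hm⟩ := (Nat.dvd_prime_pow Nat.prime_two).1 (orderOf_dvd_of_pow_eq_one hk)
      rw [Nat.card_zpowers, hm, Nat.even_pow]
      exact ⟨even_two, fun e => hu1 (orderOf_eq_one_iff.1 (by rw [hm, e, pow_zero]))⟩)
    obtain ⟨n, rfl⟩ := mem_zpowers_iff.1 hs
    exact h.mem_of_commute_invol hse (zpow_mem huT n) hs2 ((hu b hb).zpow_right n)

theorem mem_NH (hse : Cfsg.IsStronglyEmbedded (NH T)) {g a : G}
    (ha : a ∈ centralizer ({z} : Set G)) (ha1 : a ≠ 1)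
    (hg : g * a * g⁻¹ ∈ centralizer ({z} : Set G)) : g ∈ NH T := by
  have hm := h.mem_of_commute hse hg (by simpa using ha1) (b := g * z * g⁻¹) (by
    simpa using (Commute.map (mem_centralizer_singleton_iff.1 ha) (MulAut.conj g).toMonoidHom).symm)
  exact h.mem_NH_of_conj h.z_mem h.z_ne_one
    (h.invol_mem_T (by rw [orderOf_conj_eq, h.z_two]) (h.A_le_NH hm))

end Pre

/-- The standing hypotheses for the action on the cosets of `N(T)`. -/
structure Ctx (T : Sylow 2 G) (A : Subgroup G) : Prop where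
  ti : Hyp G
  stronglyEmbedded : Cfsg.IsStronglyEmbedded (NH T)
  T_le : (T : Subgroup G) ≤ A
  A_le_NH : A ≤ NH T
  many : ∃ s t : G, s ∈ (T : Subgroup G) ∧ t ∈ (T : Subgroup G) ∧ orderOf s = 2 ∧
    orderOf t = 2 ∧ s ≠ t
  mem_T : ∀ i, orderOf i = 2 → i ∈ NH T → i ∈ (T : Subgroup G)
  central : ∀ s ∈ (T : Subgroup G), orderOf s = 2 → ∀ a ∈ A, Commute a s
  conj_mem : ∀ d ∈ NH T, ∀ a ∈ A, d * a * d⁻¹ ∈ A
  mem_of_commute : ∀ a ∈ A, a ≠ 1 → ∀ b, Commute b a → b ∈ A
  mem_NH : ∀ g, ∀ a ∈ A, a ≠ 1 → g * a * g⁻¹ ∈ A → g ∈ NH T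

theorem Pre.exists_ctx {z : G} (h : Pre T z) (hnn : ¬ (T : Subgroup G).Normal)
    (hmany : ∃ s ∈ (T : Subgroup G), orderOf s = 2 ∧ s ≠ z) : ∃ A, Ctx T A := by
  obtain ⟨s, hs, hs2, hsz⟩ := hmany
  have hse := h.stronglyEmbedded hnn
  refine ⟨centralizer ({z} : Set G), h.ti, hse, h.T_le, h.A_le_NH,
    ⟨s, z, hs, h.z_mem, hs2, h.z_two, hsz⟩, fun i hi hiH => h.invol_mem_T hi hiH,
    fun t ht ht2 a ha => ?_, fun d hd a ha => h.conj_mem hse hd ha,
    fun a ha ha1 b hb => h.mem_of_commute hse ha ha1 hb,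
    fun g a ha ha1 hg => h.mem_NH hse ha ha1 hg⟩
  obtain ⟨g, hg⟩ := isConj_iff.1 (se_isConj hse h.z_two ht2)
  have hgN : g ∈ NH T := h.mem_NH_of_conj h.z_mem h.z_ne_one (hg.symm ▸ ht)
  have ha' := h.conj_mem hse (inv_mem hgN) ha
  rw [inv_inv] at ha'
  have := Commute.map (mem_centralizer_singleton_iff.1 ha') (MulAut.conj g).toMonoidHom
  simpa [hg, mul_assoc] using this

end CfsgLib.TICent
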