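import Cfsg.Agent.Lib.TICent.Abelian
import Cfsg.Agent.Lib.Invol.BrauerSuzuki
import Cfsg.Agent.Lib.FT.OddOrder
import Cfsg.Agent.Lib.Block.BRTheorem
import Cfsg.Agent.Lib.Classical.PSLTwoPerm
import Cfsg.Agent.Lib.Geom.DicksonPSL
import Cfsg.Agent.S1473
import Cfsg.Agent.S2202

/-!
# Non-solvable groups with TI centralisers
-/

set_option autoImplicit false
set_option linter.unusedSectionVars false

namespace CfsgLib.TICent

open CfsgLib.Invol

universe u

/-- An isolated involution with nilpotent centraliser forces solvability. -/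
theorem isSolvable_of_isolated {G : Type u} [Group G] [Finite G] (h : Hyp G) {z : G}
    (hz : Cfsg.IsIsolatedInvolution z) : Group.IsSolvable G := by
  set H := Cfsg.oddCore G
  have hHsol : Group.IsSolvable H := CfsgLib.FT.odd_order_solvable (odd_card_oddCore G)
  have hcn := Cfsg.Agent.S1473.result h.isCN H hHsol
  have hz1 : (QuotientGroup.mk z : G ⧸ H) ≠ 1 := fun e => by
    have hd := Subgroup.orderOf_dvd_natCard H ((QuotientGroup.eq_one_iff z).1 e)
    rw [hz.1] at hd
    exact (Nat.not_even_iff_odd.2 (odd_card_oddCore G)) (even_iff_two_dvd.2 hd)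
  have htop : Subgroup.centralizer ({(QuotientGroup.mk z : G ⧸ H)} : Set (G ⧸ H)) = ⊤ := by
    refine Subgroup.eq_top_iff' _ |>.2 fun q => ?_
    obtain ⟨g, rfl⟩ := QuotientGroup.mk_surjective q
    rw [Subgroup.mem_centralizer_singleton_iff, ← QuotientGroup.mk_mul, ← QuotientGroup.mk_mul,
      eq_comm, QuotientGroup.eq_iff_div_mem]
    simpa [div_eq_mul_inv, mul_assoc] using zstar G hz g
  have hnil := hcn _ hz1
  rw [htop] at hnil
  have : Group.IsNilpotent (G ⧸ H) :=
    Group.nilpotent_of_mulEquiv (Subgroup.topEquiv (G := G ⧸ H))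
  exact solvable_of_ker_le_range H.subtype (QuotientGroup.mk' H) (by
    rw [QuotientGroup.ker_mk', Subgroup.range_subtype])

/-- The non-solvable groups with TI centralisers. -/
theorem exists_psl {G : Type u} [Group G] [Finite G] (h : Hyp G) (hZ : Subgroup.center G = ⊥)
    (hns : ¬ Group.IsSolvable G) :
    ∃ n : ℕ, 2 ≤ n ∧
      Nonempty (G ≃* Matrix.ProjectiveSpecialLinearGroup (Fin 2) (GaloisField 2 n)) := by
  classical
  have : Fact (Nat.Prime 2) := ⟨Nat.prime_two⟩
  obtain ⟨T⟩ : Nonempty (Sylow 2 G) := inferInstance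
  have hodd_index : Odd (T : Subgroup G).index :=
    Nat.not_even_iff_odd.1 fun he => T.not_dvd_index (even_iff_two_dvd.1 he)
  have hnn : ¬ (T : Subgroup G).Normal := fun hn => hns (by
    have : Group.IsNilpotent (T : Subgroup G) := T.isPGroup'.isNilpotent
    have : Group.IsSolvable (G ⧸ (T : Subgroup G)) := CfsgLib.FT.odd_order_solvable (by
      rw [← Subgroup.index_eq_card]; exact hodd_index)
    exact solvable_of_ker_le_range (T : Subgroup G).subtype (QuotientGroup.mk' (T : Subgroup G)) (by
      rw [QuotientGroup.ker_mk', Subgroup.range_subtype]))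
  have hTb : (T : Subgroup G) ≠ ⊥ := fun e => hnn (by rw [e]; infer_instance)
  obtain ⟨z, hp⟩ := exists_pre h T hTb
  have hmany : ∃ s ∈ (T : Subgroup G), orderOf s = 2 ∧ s ≠ z := by
    by_contra hcon
    push Not at hcon
    refine hns (isSolvable_of_isolated h ⟨hp.z_two, fun g hg => ?_⟩)
    have hi : orderOf (g * z * g⁻¹) = 2 := by rw [orderOf_conj_eq, hp.z_two]
    exact hcon _ (hp.invol_mem_T hi
      (hp.A_le_NH (Subgroup.mem_centralizer_singleton_iff.2 hg.symm.eq))) hi
  obtain ⟨A, hA⟩ := hp.exists_ctx hnn hmany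
  have heven : Even (Nat.card G) := by
    rw [even_iff_two_dvd, ← hp.z_two]; exact orderOf_dvd_natCard z
  rcases Cfsg.Agent.S2202.result heven hA.abelian_centralizer with hc | hn |
    ⟨F, iF, iFF, B, iB, iBf, hch, hBodd, ⟨e⟩⟩
  · obtain ⟨s, hs, hs2, hsz⟩ := hmany
    have := hc T
    refine absurd ?_ hsz
    have : Fintype (T : Subgroup G) := Fintype.ofFinite _
    have h2 := IsCyclic.card_pow_eq_one_le (α := (T : Subgroup G)) (n := 2) (by norm_num)
    obtain ⟨g, hg⟩ := IsCyclic.exists_generator (α := (T : Subgroup G))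
    by_contra hne
    have h3 := h2
    have hsub : ({1, ⟨z, hp.z_mem⟩, ⟨s, hs⟩} : Finset (T : Subgroup G)) ⊆
        Finset.univ.filter fun a => a ^ 2 = 1 := by
      intro a ha
      simp only [Finset.mem_insert, Finset.mem_singleton] at ha
      rcases ha with rfl | rfl | rfl
      · simp
      · simp [Subtype.ext_iff, pow_two, invol_mul_self hp.z_two]
      · simp [Subtype.ext_iff, pow_two, invol_mul_self hs2]
    have h4 := (Finset.card_le_card hsub).trans h3
    have h5 : ({1, ⟨z, hp.z_mem⟩, ⟨s, hs⟩} : Finset (T : Subgroup G)).card = 3 := by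
      rw [Finset.card_eq_three]
      exact ⟨_, _, _, fun e => invol_ne_one hp.z_two (congrArg Subtype.val e).symm,
        fun e => invol_ne_one hs2 (congrArg Subtype.val e).symm,
        fun e => hne (congrArg Subtype.val e).symm, rfl⟩
    omega
  · exact absurd (hn T) hnn
  have hB1 : ∀ b : B, b = 1 := by
    intro b
    have hb : e.symm (1, b) ∈ Subgroup.center G := Subgroup.mem_center_iff.2 fun g => e.injective (by
      simp only [map_mul, MulEquiv.apply_symm_apply]
      ext1 <;> simp [mul_comm])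
    rw [hZ, Subgroup.mem_bot] at hb
    have hb' := congrArg e hb
    rw [MulEquiv.apply_symm_apply, map_one] at hb'
    exact congrArg Prod.snd hb'
  have : Subsingleton B := ⟨fun a b => by rw [hB1 a, hB1 b]⟩
  obtain ⟨f, -, hf⟩ := FiniteField.card F 2
  obtain ⟨φ⟩ := CfsgLib.Block.BrauerReynolds.psl_equiv_sl_char_two F f.pos hf
  let eB : Matrix.SpecialLinearGroup (Fin 2) F × B ≃* Matrix.SpecialLinearGroup (Fin 2) F :=
    MulEquiv.ofBijective (MonoidHom.fst _ B)
      ⟨fun a b hab => Prod.ext hab (Subsingleton.elim _ _), fun a => ⟨(a, 1), rfl⟩⟩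
  let ψ : G ≃* Matrix.ProjectiveSpecialLinearGroup (Fin 2) F := e.trans (eB.trans φ.symm)
  have hcard : Fintype.card F = Nat.card (GaloisField 2 f) := by
    rw [hf, GaloisField.card 2 f f.ne_zero]
  have : Fintype (GaloisField 2 f) := Fintype.ofFinite _
  rw [Nat.card_eq_fintype_card] at hcard
  refine ⟨f, ?_, ⟨ψ.trans (CfsgLib.Geom.Moebius.pslCongr (FiniteField.ringEquivOfCardEq hcard))⟩⟩
  by_contra hlt
  have hf1 : Fintype.card F = 2 := by
    rw [hf, show (f : ℕ) = 1 by have := f.pos; omega, pow_one]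
  have h6 : Nat.card G = 6 := by
    rw [Nat.card_congr ψ.toEquiv]
    exact CfsgLib.Classical.card_psl_two_eq hf1 6 (by norm_num)
  obtain ⟨s, hs, hs2, hsz⟩ := hmany
  have hT2 : Nat.card (T : Subgroup G) = 2 := by
    rw [Sylow.card_eq_multiplicity, h6]
    have : (6 : ℕ).factorization 2 = 1 := by
      rw [show (6 : ℕ) = 2 * 3 by norm_num, Nat.factorization_mul (by norm_num) (by norm_num)]
      simp [Nat.Prime.factorization Nat.prime_two, Nat.Prime.factorization Nat.prime_three]
    rw [this, pow_one]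
  have := Nat.card_eq_two_iff.1 hT2
  obtain ⟨a, b, -, hab⟩ := this
  have m : ∀ x : (T : Subgroup G), x = a ∨ x = b := fun x => by
    have := hab.symm ▸ Set.mem_univ x
    simpa using this
  rcases m 1 with h0 | h0 <;> rcases m ⟨z, hp.z_mem⟩ with h1 | h1 <;>
    rcases m ⟨s, hs⟩ with h2 | h2
  all_goals first
    | exact hsz (congrArg Subtype.val (h2.trans h1.symm))
    | exact invol_ne_one hp.z_two (congrArg Subtype.val (h1.trans h0.symm))
    | exact invol_ne_one hs2 (congrArg Subtype.val (h2.trans h0.symm))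

end CfsgLib.TICent
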