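import Cfsg.Agent.Lib.TICent.Basic
import Cfsg.Agent.Lib.Solvable.PCore
import Cfsg.Agent.Lib.Solvable.Nilpotent
import Mathlib

/-!
# Solvable groups with TI centralisers: complements and three-step groups
-/

set_option autoImplicit false
set_option linter.unusedSectionVars false

namespace CfsgLib.TICent

open Subgroup
open scoped Pointwise

variable {G : Type*} [Group G] [Finite G]

/-- A Frobenius complement in the conclusion of the classification of solvable CN-groups. -/
theorem complement_shape (h : Hyp G) {E C Q : Subgroup G}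
    (hCQ : C ⊔ Q = E) (hcomm : ∀ a ∈ C, ∀ b ∈ Q, a * b = b * a) (hC : IsCyclic C)
    (hCodd : Odd (Nat.card C)) {n : ℕ} (eQ : Q ≃* QuaternionGroup (2 ^ n)) :
    IsCyclic E ∨ ∃ m : ℕ, Odd m ∧ Nonempty (E ≃* Multiplicative (ZMod m) × QuaternionGroup 2) := by
  obtain ⟨m, hm⟩ : ∃ m, m = 2 ^ n := ⟨_, rfl⟩
  rw [← hm] at eQ
  have : NeZero m := ⟨by rw [hm]; positivity⟩
  have hQcard : Nat.card Q = 2 ^ (n + 2) := by
    rw [Nat.card_congr eQ.toEquiv, Nat.card_eq_fintype_card, QuaternionGroup.card, hm, pow_add]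
    ring
  let φ : C × Q →* G :=
    { toFun := fun p => (p.1 : G) * p.2
      map_one' := by simp
      map_mul' := fun p q => by
        simp only [Prod.fst_mul, Prod.snd_mul, Subgroup.coe_mul]
        rw [show (p.1 : G) * q.1 * (p.2 * q.2) = p.1 * ((q.1 : G) * p.2) * q.2 by group,
          hcomm _ q.1.2 _ p.2.2]
        group }
  have hinj : Function.Injective φ := by
    refine (injective_iff_map_eq_one _).2 fun p hp => ?_
    have hp' : (p.1 : G) * p.2 = 1 := hp
    have h1 : (p.1 : G) = 1 := by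
      have hbot : C ⊓ Q = ⊥ := inf_eq_bot_of_coprime (by
        rw [hQcard]; exact Nat.Coprime.pow_right _ (Nat.coprime_two_right.2 hCodd))
      have hm' : (p.1 : G) ∈ C ⊓ Q := Subgroup.mem_inf.2 ⟨p.1.2, by
        rw [mul_eq_one_iff_eq_inv.1 hp']; exact inv_mem p.2.2⟩
      rw [hbot, mem_bot] at hm'
      exact hm'
    rw [h1, one_mul] at hp'
    exact Prod.ext (Subtype.ext h1) (Subtype.ext hp')
  have hrange : φ.range = E := by
    refine le_antisymm ?_ (hCQ ▸ sup_le (fun c hc => ⟨(⟨c, hc⟩, 1), by simp [φ]⟩)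
      fun q hq => ⟨(1, ⟨q, hq⟩), by simp [φ]⟩)
    rintro _ ⟨p, rfl⟩
    exact hCQ ▸ mul_mem (mem_sup_left p.1.2) (mem_sup_right p.2.2)
  let eE : E ≃* C × QuaternionGroup m :=
    ((MonoidHom.ofInjective hinj).trans (MulEquiv.subgroupCongr hrange)).symm.trans
      ((MulEquiv.refl C).prodCongr eQ)
  have hm2 : m ≤ 2 := by
    by_contra hgt
    push Not at hgt
    have : Fact (1 < 2 * m) := ⟨by omega⟩
    -- the central involution `e`
    set e : G := (((eQ.symm (QuaternionGroup.a (m : ZMod (2 * m)))) : Q) : G) with he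
    have hne : (QuaternionGroup.a (m : ZMod (2 * m)) : QuaternionGroup m) ≠ 1 := by
      rw [QuaternionGroup.one_def]
      intro e1
      rw [QuaternionGroup.a.injEq, ZMod.natCast_eq_zero_iff] at e1
      have := Nat.le_of_dvd (by omega) e1
      omega
    have he1 : e ≠ 1 := fun e1 => hne (eQ.symm.injective (by
      rw [map_one]; exact Subtype.ext e1))
    have hmm : (m : ZMod (2 * m)) + m = 0 := by
      rw [← Nat.cast_add, ← two_mul, ZMod.natCast_self]
    have hneg : -(m : ZMod (2 * m)) = m := neg_eq_of_add_eq_zero_left hmm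
    have hcen : ∀ x : QuaternionGroup m, x * QuaternionGroup.a (m : ZMod (2 * m)) =
        QuaternionGroup.a (m : ZMod (2 * m)) * x := by
      rintro (i | i)
      · rw [QuaternionGroup.a_mul_a, QuaternionGroup.a_mul_a, add_comm]
      · rw [QuaternionGroup.xa_mul_a, QuaternionGroup.a_mul_xa, sub_eq_add_neg, hneg]
    have hQe : ∀ x : QuaternionGroup m, Commute ((eQ.symm x : Q) : G) e := fun x => by
      show ((eQ.symm x : Q) : G) * e = e * (eQ.symm x : Q)
      rw [he, ← Subgroup.coe_mul, ← Subgroup.coe_mul, ← map_mul, ← map_mul, hcen]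
    have hc := h.commute_conj he1 (hQe (QuaternionGroup.xa 0)) (hQe (QuaternionGroup.a 1))
      (Commute.refl ((eQ.symm (QuaternionGroup.xa 0) : Q) : G))
    have hc' : Commute (QuaternionGroup.a 1 * QuaternionGroup.xa 0 * (QuaternionGroup.a 1)⁻¹ :
        QuaternionGroup m) (QuaternionGroup.xa 0) := eQ.symm.injective (Subtype.ext (by
      simp only [map_mul, map_inv, Subgroup.coe_mul, Subgroup.coe_inv]
      exact hc.eq))
    have hinv : ((QuaternionGroup.a 1 : QuaternionGroup m))⁻¹ = QuaternionGroup.a (-1) := rfl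
    have h2 := hc'.eq
    rw [hinv, QuaternionGroup.a_mul_xa, QuaternionGroup.xa_mul_a, QuaternionGroup.xa_mul_xa,
      QuaternionGroup.xa_mul_xa, QuaternionGroup.a.injEq] at h2
    have h4 : ((4 : ℕ) : ZMod (2 * m)) = 0 := by push_cast; linear_combination h2
    rw [ZMod.natCast_eq_zero_iff] at h4
    have := Nat.le_of_dvd (by norm_num) h4
    omega
  have hn : n ≤ 1 := by
    by_contra hn
    have : 2 ^ 2 ≤ 2 ^ n := Nat.pow_le_pow_right (by norm_num) (by omega)
    omega
  interval_cases n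
  · obtain rfl : m = 1 := by simpa using hm
    refine Or.inl (eE.isCyclic.2 (Group.isCyclic_prod_iff.2 ⟨hC, ?_, ?_⟩))
    · exact isCyclic_of_orderOf_eq_card (QuaternionGroup.xa 0) (by
        rw [QuaternionGroup.orderOf_xa, Nat.card_eq_fintype_card, QuaternionGroup.card])
    · rw [Nat.card_eq_fintype_card (α := QuaternionGroup 1), QuaternionGroup.card]
      exact (Nat.coprime_two_right.2 hCodd).mul_right (Nat.coprime_two_right.2 hCodd)
  · obtain rfl : m = 2 := by simpa using hm
    exact Or.inr ⟨Nat.card C, hCodd, ⟨eE.trans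
      ((zmodCyclicMulEquiv hC).symm.prodCongr (MulEquiv.refl _))⟩⟩

/-- Three-step groups do not occur. -/
theorem not_threeStep (h : Hyp G) {p : ℕ} [Fact p.Prime] :
    ¬ Cfsg.IsThreeStepGroup p G := by
  rintro ⟨hO, A, -, -, -, -, -, htop, ⟨k, hk⟩, -, -⟩
  have hOn := CfsgLib.Solvable.pCore_normal p G
  have hOp := CfsgLib.Solvable.pCore_isPGroup (G := G) p
  obtain ⟨P⟩ : Nonempty (Sylow p G) := inferInstance
  have hOP : Cfsg.pCore p G ≤ (P : Subgroup G) :=
    (P.is_maximal' (hOp.to_sup_of_normal_left P.isPGroup') le_sup_right).le.trans' le_sup_left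
  have hPnil : Group.IsNilpotent (P : Subgroup G) := P.isPGroup'.isNilpotent
  have hne : (Cfsg.pCore p G).subgroupOf (P : Subgroup G) ≠ ⊥ := by
    rw [Ne, subgroupOf_eq_bot, disjoint_iff, inf_eq_left.2 hOP]
    exact hO
  obtain ⟨z, hzO, hzc, hz1⟩ : ∃ z : (P : Subgroup G), z ∈ (Cfsg.pCore p G).subgroupOf (P : Subgroup G) ∧
      z ∈ center (P : Subgroup G) ∧ z ≠ 1 := by
    by_contra hcon
    push Not at hcon
    refine (CfsgLib.Solvable.normal_inf_center_ne_bot (G := (P : Subgroup G)) ((Cfsg.pCore p G).subgroupOf (P : Subgroup G)) hne) ((eq_bot_iff_forall _).2 fun z hz => ?_)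
    exact hcon z hz.1 hz.2
  have hz1' : (z : G) ≠ 1 := fun e => hz1 (Subtype.ext e)
  have hPC : (P : Subgroup G) ≤ centralizer ({(z : G)} : Set G) := fun t ht =>
    mem_centralizer_singleton_iff.2 (congrArg Subtype.val (mem_center_iff.1 hzc ⟨t, ht⟩))
  have hall : ∀ g : G, g ∈ normalizer (centralizer ({(z : G)} : Set G) : Set G) := fun g =>
    h.mem_normalizer (Commute.refl (z : G)) hz1'
      (mem_centralizer_singleton_iff.1 (hPC (hOP (hOn.conj_mem _ hzO g))))
  have hCn : Group.IsNilpotent (centralizer ({(z : G)} : Set G)) := h.isCN z hz1'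
  have hnorm : ∀ (q : ℕ) (_ : Fact q.Prime) (S : Sylow q (centralizer ({(z : G)} : Set G))),
      (S : Subgroup (centralizer ({(z : G)} : Set G))).Normal :=
    ((Group.isNilpotent_of_finite_tfae).out 0 3).1 hCn
  have hPn : (P : Subgroup G).Normal := by
    have hs := hnorm p inferInstance (P.subtype hPC)
    rw [Sylow.coe_subtype] at hs
    refine ⟨fun x hx g => ?_⟩
    have hgx : g * x * g⁻¹ ∈ centralizer ({(z : G)} : Set G) :=
      (mem_normalizer_iff.1 (hall g) x).1 (hPC hx)
    obtain ⟨j, hj⟩ := P.isPGroup' ⟨x, hx⟩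
    have hpow : (g * x * g⁻¹) ^ p ^ j = 1 := by
      rw [conj_pow, show x ^ p ^ j = 1 from congrArg Subtype.val hj, mul_one, mul_inv_cancel]
    have hz : IsPGroup p (zpowers (g * x * g⁻¹)) := by
      obtain ⟨i, -, hi⟩ := (Nat.dvd_prime_pow Fact.out).1 (orderOf_dvd_of_pow_eq_one hpow)
      exact IsPGroup.of_card (n := i) (by rw [Nat.card_zpowers, hi])
    have hle : zpowers (g * x * g⁻¹) ≤ normalizer ((P : Subgroup G) : Set G) :=
      zpowers_le.2 ((normal_subgroupOf_iff_le_normalizer hPC).1 hs hgx)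
    exact (P.is_maximal' (P.isPGroup'.to_sup_of_normal_left' hz hle) le_sup_left).le
      (mem_sup_right (mem_zpowers _))
  have hP : (P : Subgroup G) ≤ Cfsg.pCore p G ⊔ A :=
    (CfsgLib.Solvable.le_pCore hPn P.isPGroup').trans le_sup_left
  have hd := Subgroup.index_dvd_of_le hP
  rw [hk] at hd
  rcases Nat.eq_zero_or_pos k with rfl | hk0
  · exact htop (Subgroup.index_eq_one.1 (by simpa using hk))
  · exact P.not_dvd_index ((dvd_pow_self p hk0.ne').trans hd)

end CfsgLib.TICent
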